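import Groth.Agent.UnipHopfLib.Alg

/-!
Coconnected filtrations.
-/

set_option autoImplicit false

noncomputable section

universe u v

open TensorProduct HopfRep WithConv
open scoped ComodLib

namespace Groth.Agent.UnipHopf

variable {k : Type u} [Field k] {A : Type v} [CommRing A] [Bialgebra k A]

/-- Any coconnected filtration lies in the socle filtration. -/
theorem le_K_of_coconnected {C : ℕ → Submodule k A}
    (hC : ∀ r, Submodule.map (CoalgebraStruct.comul (R := k) (A := A)) (C r) ≤
      ⨆ i ∈ Finset.range (r + 1), LinearMap.range (TensorProduct.mapIncl (C i) (C (r - i))))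
    (h0 : C 0 = Submodule.span k {(1 : A)}) (r : ℕ) : C r ≤ K k A (r + 1) := by
  induction r using Nat.strong_induction_on with
  | _ r ih =>
    intro a ha
    refine mem_K_succ.2 fun f hf => ?_
    have h := hC r ⟨a, ha, rfl⟩
    have hle : (⨆ i ∈ Finset.range (r + 1), LinearMap.range (TensorProduct.mapIncl (C i) (C (r - i)))) ≤
        (K k A r).comap (ComodLib.slice f.ofConv) := by
      refine iSup₂_le fun i hi => ?_
      rintro _ ⟨z, rfl⟩
      rw [Submodule.mem_comap]
      induction z using TensorProduct.induction_on with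
      | zero => simp
      | add x y hx hy => rw [map_add, map_add]; exact add_mem hx hy
      | tmul p q =>
        rw [TensorProduct.mapIncl, TensorProduct.map_tmul, ComodLib.slice_tmul]
        rcases Nat.lt_or_ge i r with hlt | hge
        · exact Submodule.smul_mem _ _ (K_mono (by omega : i + 1 ≤ r) (ih i hlt p.2))
        · have hq : (q : A) ∈ Submodule.span k {(1 : A)} := by
            rw [← h0]
            have hri : C (r - i) = C 0 := congrArg C (by omega)
            exact hri ▸ q.2
          obtain ⟨c, hc⟩ := Submodule.mem_span_singleton.1 hq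
          simp only [Submodule.subtype_apply]
          rw [← hc, LinearMap.map_smul, hf, smul_zero, zero_smul]
          exact zero_mem _
    exact hle h

/-- The socle filtration is coconnected. -/
theorem coconnected_K (r : ℕ) :
    Submodule.map (CoalgebraStruct.comul (R := k) (A := A)) (K k A (r + 1)) ≤
      ⨆ i ∈ Finset.range (r + 1), LinearMap.range (TensorProduct.mapIncl (K k A (i + 1)) (K k A (r - i + 1))) := by
  classical
  choose π hπ using fun i => LinearMap.exists_leftInverse_of_injective (K k A i).subtype
    (LinearMap.ker_eq_bot.2 Subtype.val_injective)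
  let e : ℕ → (A →ₗ[k] A) := fun i => (K k A i).subtype ∘ₗ π i
  have he : ∀ i, ∀ x ∈ K k A i, e i x = x := fun i x hx => by
    have := LinearMap.congr_fun (hπ i) ⟨x, hx⟩
    exact congrArg Subtype.val this
  have her : ∀ i x, e i x ∈ K k A i := fun i x => (π i x).2
  -- `f i` is the composite `e i ∘ ⋯ ∘ e (r + 1)`
  let F : ℕ → (A →ₗ[k] A) := fun j => Nat.rec (LinearMap.id) (fun j g => e (r - j) ∘ₗ g) j
  let f : ℕ → (A →ₗ[k] A) := fun i => F (r + 1 - i)
  have hf_top : f (r + 1) = LinearMap.id := by simp [f, F]
  have hf_succ : ∀ i ≤ r, f i = e i ∘ₗ f (i + 1) := fun i hi => by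
    show F (r + 1 - i) = e i ∘ₗ F (r + 1 - (i + 1))
    rw [show r + 1 - i = (r - i) + 1 by omega, show r + 1 - (i + 1) = r - i by omega]
    show e (r - (r - i)) ∘ₗ F (r - i) = _
    rw [show r - (r - i) = i by omega]
  have hf_id : ∀ d i, i + d = r + 1 → ∀ x ∈ K k A i, f i x = x := by
    intro d
    induction d with
    | zero => intro i hi x _; rw [show i = r + 1 by omega, hf_top]; rfl
    | succ d ih =>
      intro i hi x hx
      rw [hf_succ i (by omega), LinearMap.comp_apply, ih (i + 1) (by omega) x (K_mono (Nat.le_succ i) hx), he i x hx]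
  let p : ℕ → (A →ₗ[k] A) := fun i => f (i + 1) - f i
  have hp0 : ∀ i ≤ r, ∀ x ∈ K k A i, p i x = 0 := fun i hi x hx => by
    simp only [p, LinearMap.sub_apply]
    rw [hf_id (r - i) (i + 1) (by omega) x (K_mono (Nat.le_succ i) hx), hf_id (r + 1 - i) i (by omega) x hx, sub_self]
  have hfr : ∀ i ≤ r, ∀ x, f i x ∈ K k A i := fun i hi x => by rw [hf_succ i hi]; exact her i _
  have hpr : ∀ i ≤ r, ∀ x ∈ K k A (r + 1), p i x ∈ K k A (i + 1) := fun i hi x hx => by
    simp only [p, LinearMap.sub_apply]
    refine sub_mem ?_ (K_mono (Nat.le_succ i) (hfr i hi x))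
    rcases Nat.lt_or_ge i r with hlt | hge
    · exact hfr (i + 1) hlt x
    · rw [show i = r by omega, hf_top]
      exact hx
  have hsum : ∀ x, ∑ i ∈ Finset.range (r + 1), p i x = x := fun x => by
    show ∑ i ∈ Finset.range (r + 1), (f (i + 1) - f i) x = x
    simp only [LinearMap.sub_apply]
    rw [Finset.sum_range_sub (fun i => f i x), hf_top]
    have : f 0 x = 0 := by
      have := hfr 0 (Nat.zero_le r) x
      rwa [K_zero, Submodule.mem_bot] at this
    rw [this, sub_zero]
    rfl
  rintro _ ⟨a, ha, rfl⟩
  obtain ⟨z, hz⟩ := isSubcoalg_K (r + 1) a ha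
  have hz0 : CoalgebraStruct.comul (R := k) a = ∑ i ∈ Finset.range (r + 1), ∑ j ∈ Finset.range (r + 1),
      TensorProduct.map (p i) (p j) (CoalgebraStruct.comul (R := k) a) := by
    generalize CoalgebraStruct.comul (R := k) a = y
    induction y using TensorProduct.induction_on with
    | zero => simp
    | add x y hx hy => simp only [map_add, Finset.sum_add_distrib, ← hx, ← hy]
    | tmul x y =>
      simp only [TensorProduct.map_tmul, ← TensorProduct.tmul_sum, hsum]
      rw [← TensorProduct.sum_tmul, hsum]
  rw [hz0]
  refine Submodule.sum_mem _ fun i hi => Submodule.sum_mem _ fun j hj => ?_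
  rw [Finset.mem_range] at hi hj
  rcases Nat.lt_or_ge r (i + j) with hlt | hge
  · have : TensorProduct.map (p i) (p j) (CoalgebraStruct.comul (R := k) a) = 0 := by
      refine ComodLib.ext_slice fun ψ => ?_
      by_contra hne
      rw [map_zero] at hne
      obtain ⟨g, hg⟩ := ComodLib.exists_dual_ne (k := k) hne
      apply hg
      have h := comul_tmul_apply_eq_zero (g ∘ₗ p i) (ψ ∘ₗ p j)
        (fun x hx => by simp [hp0 i (by omega) x hx]) (fun x hx => by simp [hp0 j (by omega) x hx])
        (K_mono (by omega : r + 1 ≤ i + j) ha)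
      rw [← h]
      generalize CoalgebraStruct.comul (R := k) a = y
      induction y using TensorProduct.induction_on with
      | zero => simp
      | add x y hx hy => simp only [map_add, hx, hy]
      | tmul x y => simp [mul_comm]
    rw [this]
    exact zero_mem _
  · refine Submodule.mem_iSup_of_mem i (Submodule.mem_iSup_of_mem (Finset.mem_range.2 (by omega)) ?_)
    rw [← hz]
    have hle : K k A (j + 1) ≤ K k A (r - i + 1) := K_mono (by omega)
    refine ⟨TensorProduct.map
      ((p i ∘ₗ (K k A (r + 1)).subtype).codRestrict _ fun x => hpr i (by omega) x x.2)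
      ((p j ∘ₗ (K k A (r + 1)).subtype).codRestrict _ fun x => hle (hpr j (by omega) x x.2)) z, ?_⟩
    rw [TensorProduct.mapIncl, TensorProduct.map_map, TensorProduct.map_map, LinearMap.subtype_comp_codRestrict,
      LinearMap.subtype_comp_codRestrict]

end Groth.Agent.UnipHopf
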