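import Groth.Agent.ComodLib.Coeff
import Groth.Agent.ComodLib.Semisimple
import Groth.Prelude.Def_HopfRep
import Groth.Prelude.Def_ComodSub
import Mathlib.RingTheory.Artinian.Module

/-!
The socle filtration of comodules over a commutative bialgebra over a field, and unipotence.
-/

set_option autoImplicit false

noncomputable section

universe u v w w'

open TensorProduct HopfRep WithConv
open scoped ComodLib

namespace Groth.Agent.UnipHopf

variable {k : Type u} [Field k] {A : Type v} [CommRing A] [Bialgebra k A]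

local notation "𝔸" => ComodLib.Dual' k A

section comod

variable {V : Type w} [AddCommGroup V] [Module k V] [Comod k A V]
  {W : Type w'} [AddCommGroup W] [Module k W] [Comod k A W]

variable (k A V) in
/-- The socle filtration by fixed vectors. -/
def soc : ℕ → Submodule k V
  | 0 => ⊥
  | n + 1 => ⨅ (f : ComodLib.Dual' k A) (_ : f (1 : A) = 0),
      (soc n).comap (ComodLib.actAlgHom k A V f)

theorem soc_zero : soc k A V 0 = ⊥ := rfl

theorem mem_soc_succ {n : ℕ} {v : V} :
    v ∈ soc k A V (n + 1) ↔ ∀ f : 𝔸, f (1 : A) = 0 → f • v ∈ soc k A V n := by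
  simp only [soc, Submodule.mem_iInf, Submodule.mem_comap]
  rfl

theorem soc_le_succ (n : ℕ) : soc k A V n ≤ soc k A V (n + 1) := by
  induction n with
  | zero => exact bot_le
  | succ n ih => exact fun v hv => mem_soc_succ.2 fun f hf => ih (mem_soc_succ.1 hv f hf)

theorem soc_mono : Monotone (soc k A V) := monotone_nat_of_le_succ soc_le_succ

theorem mul_apply_one (f g : 𝔸) : (f * g) (1 : A) = f (1 : A) * g (1 : A) := by
  rw [LinearMap.convMul_apply, Bialgebra.comul_one, Algebra.TensorProduct.one_def]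
  simp

theorem smul_mem_soc (g : 𝔸) {n : ℕ} {v : V} (hv : v ∈ soc k A V n) : g • v ∈ soc k A V n := by
  cases n with
  | zero => rw [soc_zero, Submodule.mem_bot] at hv ⊢; rw [hv, smul_zero]
  | succ n =>
    refine mem_soc_succ.2 fun f hf => ?_
    rw [← mul_smul]
    exact mem_soc_succ.1 hv _ (by rw [mul_apply_one, hf, zero_mul])

theorem isSubcomod_soc (n : ℕ) : IsSubcomod (k := k) (A := A) (soc k A V n) :=
  (ComodLib.isSubcomod_iff _).2 fun f _ hv => smul_mem_soc f hv

theorem map_soc (φ : V →ₗ[𝔸] W) {n : ℕ} {v : V} (hv : v ∈ soc k A V n) : φ v ∈ soc k A W n := by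
  induction n generalizing v with
  | zero => rw [soc_zero, Submodule.mem_bot] at hv ⊢; rw [hv, map_zero]
  | succ n ih =>
    refine mem_soc_succ.2 fun f hf => ?_
    rw [← map_smul]
    exact ih (mem_soc_succ.1 hv f hf)

variable (k A) in
/-- The counit as a functional. -/
def εF : 𝔸 := toConv (CoalgebraStruct.counit (R := k) (A := A))

theorem εF_smul (v : V) : εF k A • v = v := ComodLib.slice_counit v

theorem εF_one : (εF k A) (1 : A) = 1 := Bialgebra.counit_one

theorem sub_εF_smul (f : 𝔸) (v : V) :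
    (f - f (1 : A) • εF k A) • v = f • v - f (1 : A) • v := by
  rw [sub_smul, smul_assoc, εF_smul]

theorem sub_εF_one (f : 𝔸) : (f - f (1 : A) • εF k A) (1 : A) = 0 := by
  show f.ofConv (1 : A) - f (1 : A) * (εF k A) (1 : A) = 0
  rw [εF_one, mul_one, sub_self]

theorem mem_fixedPts_iff {v : V} :
    v ∈ fixedPts k A V ↔ v ∈ soc k A V 1 := by
  rw [mem_soc_succ]
  simp only [soc_zero, Submodule.mem_bot]
  refine ⟨fun h f hf => ?_, fun h => ?_⟩
  · rw [ComodLib.smul_eq, show Comod.coact (k := k) (A := A) v = v ⊗ₜ[k] (1 : A) from h]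
    simp [hf]
  · show Comod.coact (k := k) (A := A) v = v ⊗ₜ[k] (1 : A)
    refine ComodLib.ext_slice fun f => ?_
    have h1 := h _ (sub_εF_one (toConv f))
    rw [sub_εF_smul, sub_eq_zero, ComodLib.smul_eq] at h1
    simpa using h1

theorem coact_sub_mem_of_mem_soc {n : ℕ} {v : V} (hv : v ∈ soc k A V (n + 1)) :
    Comod.coact (k := k) (A := A) v - v ⊗ₜ[k] (1 : A) ∈
      LinearMap.range ((soc k A V n).subtype.rTensor A) := by
  refine (ComodLib.mem_range_rTensor_iff _ _).2 fun f => ?_
  have h := mem_soc_succ.1 hv _ (sub_εF_one (toConv f))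
  rw [sub_εF_smul, ComodLib.smul_eq] at h
  simpa using h

theorem mem_soc_succ_of_coact_sub {n : ℕ} {v : V}
    (hv : Comod.coact (k := k) (A := A) v - v ⊗ₜ[k] (1 : A) ∈
      LinearMap.range ((soc k A V n).subtype.rTensor A)) : v ∈ soc k A V (n + 1) := by
  refine mem_soc_succ.2 fun f hf => ?_
  have h := (ComodLib.mem_range_rTensor_iff _ _).1 hv f.ofConv
  rw [ComodLib.smul_eq]
  simpa [hf] using h

theorem exists_fixed_of_mem_soc {n : ℕ} {v : V} (hv : v ∈ soc k A V n) (h0 : v ≠ 0) :
    fixedPts k A V ≠ ⊥ := by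
  intro hbot
  have : ∀ m, soc k A V m = ⊥ := fun m => by
    induction m with
    | zero => rfl
    | succ m ih =>
      rw [eq_bot_iff, ← hbot]
      intro x hx
      refine mem_fixedPts_iff.2 (mem_soc_succ.2 fun f hf => ?_)
      have := mem_soc_succ.1 hx f hf
      rwa [ih] at this
  rw [this, Submodule.mem_bot] at hv
  exact h0 hv

end comod

variable (k A) in
/-- The socle filtration of the regular comodule. -/
def K (n : ℕ) : Submodule k A := soc k A A n

theorem K_zero : K k A 0 = ⊥ := rfl

theorem mem_K_succ {n : ℕ} {a : A} :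
    a ∈ K k A (n + 1) ↔ ∀ f : 𝔸, f (1 : A) = 0 → f • a ∈ K k A n := mem_soc_succ

theorem K_mono : Monotone (K k A) := soc_mono

theorem smul_mem_K (g : 𝔸) {n : ℕ} {a : A} (ha : a ∈ K k A n) : g • a ∈ K k A n := smul_mem_soc g ha

theorem coeff_mem_K (g : A →ₗ[k] k) {n : ℕ} {a : A} (ha : a ∈ K k A n) :
    ComodLib.coeff (A := A) g a ∈ K k A n := map_soc _ ha

theorem isSubcoalg_K (n : ℕ) : ComodLib.IsSubcoalg (K k A n) :=
  (ComodLib.isSubcoalg_iff _).2 ⟨isSubcomod_soc n, fun g _ hb => coeff_mem_K g hb⟩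

theorem smul_one_eq (f : 𝔸) : f • (1 : A) = f (1 : A) • (1 : A) := by
  rw [ComodLib.smul_eq, show Comod.coact (k := k) (A := A) (1 : A) = CoalgebraStruct.comul (R := k) (1 : A) from rfl,
    Bialgebra.comul_one, Algebra.TensorProduct.one_def]
  simp

theorem one_mem_K_one : (1 : A) ∈ K k A 1 := by
  refine mem_K_succ.2 fun f hf => ?_
  rw [smul_one_eq, hf, zero_smul]
  exact zero_mem _

theorem eq_counit_smul_one_of_mem_K_one {a : A} (ha : a ∈ K k A 1) :
    a = CoalgebraStruct.counit (R := k) a • (1 : A) := by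
  have h := mem_fixedPts_iff.2 ha
  have h' : CoalgebraStruct.comul (R := k) a = a ⊗ₜ[k] (1 : A) := h
  have h1 := congrArg (TensorProduct.lid k A) (Coalgebra.rTensor_counit_comul (R := k) a)
  rw [h', LinearMap.rTensor_tmul, TensorProduct.lid_tmul, TensorProduct.lid_tmul, one_smul] at h1
  exact h1.symm

theorem K_one : K k A 1 = Submodule.span k {(1 : A)} := by
  refine le_antisymm (fun a ha => ?_) (Submodule.span_le.2 (by simpa using one_mem_K_one))
  rw [eq_counit_smul_one_of_mem_K_one ha]
  exact Submodule.smul_mem _ _ (Submodule.subset_span rfl)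

section comod

variable {V : Type w} [AddCommGroup V] [Module k V] [Comod k A V]

theorem mem_soc_of_coeff {n : ℕ} {v : V} (h : ∀ g : V →ₗ[k] k, ComodLib.coeff (A := A) g v ∈ K k A n) :
    v ∈ soc k A V n := by
  induction n generalizing v with
  | zero =>
    rw [soc_zero, Submodule.mem_bot]
    by_contra hv
    obtain ⟨g, hg⟩ := ComodLib.exists_dual_ne (k := k) hv
    apply hg
    have := h g
    rw [K_zero, Submodule.mem_bot] at this
    rw [← ComodLib.counit_coeff (A := A) g v, this, map_zero]
  | succ n ih =>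
    refine mem_soc_succ.2 fun f hf => ih fun g => ?_
    rw [map_smul]
    exact mem_K_succ.1 (h g) f hf

/-- If the regular comodule is exhausted by its socles, so is every comodule. -/
theorem exists_mem_soc (hK : ∀ a : A, ∃ n, a ∈ K k A n) (v : V) : ∃ n, v ∈ soc k A V n := by
  classical
  obtain ⟨s, hs⟩ := ComodLib.exists_expansion (Comod.coact (k := k) (A := A) v)
  choose n hn using hK
  refine ⟨s.sup fun i => n (Module.Basis.ofVectorSpace k A i), mem_soc_of_coeff fun g => ?_⟩
  rw [ComodLib.coeff_apply, hs, map_sum]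
  refine Submodule.sum_mem _ fun i hi => ?_
  rw [ComodLib.sliceL_tmul]
  exact Submodule.smul_mem _ _ (K_mono (Finset.le_sup (f := fun i => n (Module.Basis.ofVectorSpace k A i)) hi) (hn _))

end comod

/-- Exhaustion of the regular comodule by socles implies unipotence. -/
theorem isUnipotent_of_exhaustive (hK : ∀ a : A, ∃ n, a ∈ K k A n) : IsUnipotent k A := by
  intro V _ _ _ _ _
  obtain ⟨v, hv⟩ := exists_ne (0 : V)
  obtain ⟨n, hn⟩ := exists_mem_soc hK v
  exact exists_fixed_of_mem_soc hn hv

/-- Finite-dimensional representations of unipotent groups are unipotent. -/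
theorem exists_soc_eq_top (hU : IsUnipotent k A) (V : Type v) [AddCommGroup V] [Module k V] [i : Comod k A V]
    [Module.Finite k V] : ∃ n, soc k A V n = ⊤ := by
  obtain ⟨n, hn⟩ := monotone_stabilizes_iff_noetherian.mpr inferInstance
    (⟨soc k A V, soc_mono⟩ : ℕ →o Submodule k V)
  refine ⟨n, ?_⟩
  by_contra hne
  let S := soc k A V n
  letI q : Comod k A (V ⧸ S) := ComodSub.Comod.quot i S (isSubcomod_soc n)
  haveI : Nontrivial (V ⧸ S) := Submodule.Quotient.nontrivial_iff.2 hne
  apply hU (V ⧸ S) inferInstance inferInstance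
  rw [eq_bot_iff]
  intro x hx
  obtain ⟨y, rfl⟩ := Submodule.Quotient.mk_surjective S x
  rw [Submodule.mem_bot, Submodule.Quotient.mk_eq_zero]
  have hy : y ∈ soc k A V (n + 1) := by
    refine mem_soc_succ.2 fun f hf => ?_
    have h := mem_soc_succ.1 (mem_fixedPts_iff.1 hx) f hf
    rw [soc_zero, Submodule.mem_bot] at h
    have e : f • (Submodule.Quotient.mk y : V ⧸ S) = S.mkQ (f • y) :=
      (((ComodLib.isComodHom_iff (A := A) S.mkQ).1 (ComodSub.isComodHom_mkQ i S (isSubcomod_soc n))) f y).symm
    rw [e, Submodule.mkQ_apply, Submodule.Quotient.mk_eq_zero] at h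
    exact h
  rw [show S = soc k A V (n + 1) from hn (n + 1) (Nat.le_succ n)]
  exact hy

/-- Unipotence implies exhaustion of the regular comodule by its socles. -/
theorem exhaustive_of_isUnipotent (hU : IsUnipotent k A) (a : A) : ∃ n, a ∈ K k A n := by
  let S : Submodule k A := (Submodule.span 𝔸 ({a} : Set A)).restrictScalars k
  haveI : FiniteDimensional k S := ComodLib.finite_span_singleton A a
  have hS : IsSubcomod (k := k) (A := A) S := ComodLib.isSubcomod_restrictScalars _
  letI i : Comod k A S := ComodSub.Comod.restr (Comod.regular k A) S hS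
  obtain ⟨n, hn⟩ := exists_soc_eq_top hU S
  refine ⟨n, ?_⟩
  let φ : S →ₗ[𝔸] A := ComodLib.toHom S.subtype (ComodSub.isComodHom_subtype (Comod.regular k A) S hS)
  have h : (⟨a, Submodule.mem_span_singleton_self a⟩ : S) ∈ soc k A S n := hn ▸ Submodule.mem_top
  exact map_soc φ h

theorem isUnipotent_iff_exhaustive : IsUnipotent k A ↔ ∀ a : A, ∃ n, a ∈ K k A n :=
  ⟨exhaustive_of_isUnipotent, isUnipotent_of_exhaustive⟩

end Groth.Agent.UnipHopf
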