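import Groth.Agent.UnipHopfLib.Alg
import Groth.Agent.HopfFFLib.Injective
import Groth.Agent.HopfFFLib.Consequences
import Mathlib.RingTheory.Flat.FaithfullyFlat.Basic

/-!
Primitive elements and unipotence.
-/

set_option autoImplicit false

noncomputable section

universe u v

open TensorProduct HopfRep WithConv
open scoped ComodLib

namespace Groth.Agent.UnipHopf

variable {k : Type u} [Field k] {A : Type v} [CommRing A] [HopfAlgebra k A]

theorem counit_primitive {x : A} (hx : CoalgebraStruct.comul (R := k) x = x ⊗ₜ[k] (1 : A) + (1 : A) ⊗ₜ[k] x) :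
    CoalgebraStruct.counit (R := k) x = 0 := by
  have h := congrArg (CoalgebraStruct.counit (R := k) ∘ TensorProduct.lid k A) (Coalgebra.rTensor_counit_comul (R := k) x)
  rw [hx] at h
  simpa using h

theorem antipode_primitive {x : A} (hx : CoalgebraStruct.comul (R := k) x = x ⊗ₜ[k] (1 : A) + (1 : A) ⊗ₜ[k] x) :
    HopfAlgebraStruct.antipode (R := k) x = -x := by
  have h := HopfAlgebra.mul_antipode_rTensor_comul_apply (R := k) x
  rw [hx, counit_primitive hx, map_zero] at h
  simp only [map_add, LinearMap.rTensor_tmul, LinearMap.mul'_apply, mul_one, HopfAlgebra.antipode_one, one_mul] at h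
  exact eq_neg_of_add_eq_zero_left h

theorem isHopfIdeal_span_primitive {x : A}
    (hx : CoalgebraStruct.comul (R := k) x = x ⊗ₜ[k] (1 : A) + (1 : A) ⊗ₜ[k] x) :
    (Ideal.span {x}).IsHopfIdeal k := by
  haveI : ((Ideal.span {x}).restrictScalars k).IsCoideal := by
    refine ⟨fun y hy => ?_, fun y hy => ?_⟩
    · obtain ⟨c, rfl⟩ := Ideal.mem_span_singleton'.1 hy
      rw [Bialgebra.counit_mul, counit_primitive hx, mul_zero]
    · obtain ⟨c, rfl⟩ := Ideal.mem_span_singleton'.1 hy
      rw [Bialgebra.comul_mul, hx]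
      generalize CoalgebraStruct.comul (R := k) c = z
      have h0 : ∀ a : A, ((Ideal.span {x}).restrictScalars k).mkQ (a * x) = 0 := fun a =>
        (Submodule.Quotient.mk_eq_zero _).2 (Ideal.mul_mem_left _ a (Ideal.subset_span rfl))
      induction z using TensorProduct.induction_on with
      | zero => simp
      | add p q hp hq => simp only [add_mul, map_add, hp, hq, add_zero]
      | tmul p q =>
        rw [mul_add, Algebra.TensorProduct.tmul_mul_tmul, Algebra.TensorProduct.tmul_mul_tmul, map_add,
          TensorProduct.map_tmul, TensorProduct.map_tmul, h0, h0, TensorProduct.zero_tmul, TensorProduct.tmul_zero,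
          add_zero]
  refine ⟨fun y hy => ?_⟩
  obtain ⟨c, rfl⟩ := Ideal.mem_span_singleton'.1 hy
  show HopfAlgebraStruct.antipode (R := k) (c * x) ∈ _
  rw [show HopfAlgebraStruct.antipode (R := k) (c * x) = HopfAlgebra.antipodeAlgHom k A (c * x) from rfl, map_mul,
    show HopfAlgebra.antipodeAlgHom k A x = -x from antipode_primitive hx, mul_neg]
  exact neg_mem (Ideal.mul_mem_left _ _ (Ideal.subset_span rfl))

theorem isHopfIdeal_comap {B : Type v} [CommRing B] [HopfAlgebra k B] (f : A →ₐc[k] B) (I : Ideal B)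
    [I.IsHopfIdeal k] : (I.comap (f : A →ₐ[k] B)).IsHopfIdeal k := by
  refine { counit_eq_zero := ?_, map_mkQ_comul_eq_zero := ?_, antipode_mem := ?_ }
  · intro x hx
    rw [← CoalgHomClass.counit_comp_apply f x]
    exact Submodule.IsCoideal.counit_eq_zero (I := I.restrictScalars k) hx
  · intro x hx
    let j := (Ideal.quotientMapₐ I (f : A →ₐ[k] B) (le_refl (I.comap (f : A →ₐ[k] B)))).toLinearMap
    have hj : Function.Injective j := Ideal.quotientMap_injective
    have hinj : Function.Injective (TensorProduct.map j j) := by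
      rw [← LinearMap.lTensor_comp_rTensor, LinearMap.coe_comp]
      exact (Module.Flat.lTensor_preserves_injective_linearMap j hj).comp
        (Module.Flat.rTensor_preserves_injective_linearMap j hj)
    let π := (Ideal.Quotient.mkₐ k (I.comap (f : A →ₐ[k] B))).toLinearMap
    have h0 : TensorProduct.map π π (CoalgebraStruct.comul (R := k) x) = 0 := by
      apply hinj
      rw [map_zero, ← LinearMap.comp_apply, ← TensorProduct.map_comp,
        show j ∘ₗ π = (Ideal.Quotient.mkₐ k I).toLinearMap ∘ₗ (f : A →ₐ[k] B).toLinearMap from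
          rfl, TensorProduct.map_comp, LinearMap.comp_apply]
      erw [CoalgHomClass.map_comp_comul_apply f x]
      exact Submodule.IsCoideal.map_mkQ_comul_eq_zero (I := I.restrictScalars k) hx
    exact h0
  · intro x hx
    show f (HopfAlgebraStruct.antipode (R := k) x) ∈ I
    rw [HopfFF.map_antipode]
    exact Ideal.IsHopfIdeal.antipode_mem (R := k) hx

theorem conv_cancel {T : Type*} [CommRing T] [Algebra k T] (L R : A →ₐ[k] T) :
    toConv L * (toConv (L.comp (HopfAlgebra.antipodeAlgHom k A)) * toConv R) = toConv R := by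
  rw [← mul_assoc, HopfFF.conv_mul_comp_antipode, one_mul]

/-- Functions invariant under the kernel of an additive character lie in the unipotent part. -/
theorem mem_unipPart_of_invariant {x : A}
    (hx : CoalgebraStruct.comul (R := k) x = x ⊗ₜ[k] (1 : A) + (1 : A) ⊗ₜ[k] x) {c : A}
    (hc : Algebra.TensorProduct.map (AlgHom.id k A) (Ideal.Quotient.mkₐ k (Ideal.span {x}))
      (CoalgebraStruct.comul (R := k) c) = c ⊗ₜ[k] 1) : c ∈ unipPart k A := by
  let B := unipPart k A
  haveI : Module.FaithfullyFlat ↥B A := HopfFF.faithfullyFlat isSubHopf_unipPart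
  let inL : A →ₐ[k] A ⊗[↥B] A := Algebra.TensorProduct.includeLeft
  let inR : A →ₐ[k] A ⊗[↥B] A :=
    (Algebra.TensorProduct.includeRight : A →ₐ[↥B] A ⊗[↥B] A).restrictScalars k
  let S := inL.comp (HopfAlgebra.antipodeAlgHom k A)
  let Θ : WithConv (A →ₐ[k] A ⊗[↥B] A) := toConv S * toConv inR
  have hΘx : Θ.ofConv x = 0 := by
    have hxB : x ∈ B := ⟨2, mem_K_two_of_primitive hx⟩
    have hLR : inR x = inL x :=
      ((Algebra.TensorProduct.includeRight : A →ₐ[↥B] A ⊗[↥B] A).commutes ⟨x, hxB⟩).trans
        ((Algebra.TensorProduct.includeLeft : A →ₐ[↥B] A ⊗[↥B] A).commutes ⟨x, hxB⟩).symm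
    show (toConv S * toConv inR) x = 0
    rw [AlgHom.convMul_apply, hx, map_add]
    simp only [ofConv_toConv, Algebra.TensorProduct.map_tmul, Algebra.TensorProduct.lift_tmul]
    simp [S, antipode_primitive hx, hLR, inL, ← TensorProduct.add_tmul]
  let θ : (A ⧸ Ideal.span {x}) →ₐ[k] A ⊗[↥B] A := Ideal.Quotient.liftₐ _ Θ.ofConv
    fun a ha => by
      obtain ⟨d, rfl⟩ := Ideal.mem_span_singleton'.1 ha
      rw [map_mul, hΘx, mul_zero]
  have h1 : toConv inL * Θ = toConv inR := by
    exact conv_cancel inL inR
  have h2 : inR c = inL c := by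
    have e := congrArg (fun F : WithConv (A →ₐ[k] A ⊗[↥B] A) => F c) h1
    simp only [AlgHom.convMul_apply] at e
    have key : ∀ z : A ⊗[k] A, (Algebra.TensorProduct.productMap inL Θ.ofConv) z =
        Algebra.TensorProduct.productMap inL θ
          (Algebra.TensorProduct.map (AlgHom.id k A) (Ideal.Quotient.mkₐ k (Ideal.span {x})) z) := fun z => by
      induction z using TensorProduct.induction_on with
      | zero => simp
      | add p q hp hq => simp only [map_add, hp, hq]
      | tmul p q => simp [θ]
    have e2 := key (CoalgebraStruct.comul (R := k) c)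
    rw [hc] at e2
    simp only [Algebra.TensorProduct.productMap_apply_tmul, map_one, mul_one] at e2
    rw [← e2]
    refine e.symm.trans ?_
    generalize CoalgebraStruct.comul (R := k) c = z
    induction z using TensorProduct.induction_on with
    | zero => simp
    | add p q hp hq => simp only [map_add, hp, hq]
    | tmul p q => simp
  let R : Submodule ↥B A := LinearMap.range (Algebra.linearMap ↥B A)
  have h3 := congrArg (LinearMap.lTensor A R.mkQ) h2
  change LinearMap.lTensor A R.mkQ ((1 : A) ⊗ₜ[↥B] c) = LinearMap.lTensor A R.mkQ (c ⊗ₜ[↥B] (1 : A)) at h3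
  rw [LinearMap.lTensor_tmul, LinearMap.lTensor_tmul,
    show R.mkQ (1 : A) = 0 from (Submodule.Quotient.mk_eq_zero R).2 ⟨1, map_one (algebraMap ↥B A)⟩,
    tmul_zero] at h3
  have h4 : R.mkQ c = 0 :=
    Module.FaithfullyFlat.tensorProduct_mk_injective (A := ↥B) (B := A) (A ⧸ R)
      (h3.trans (map_zero _).symm)
  obtain ⟨b, rfl⟩ := (Submodule.Quotient.mk_eq_zero R).1 h4
  exact b.2

/-- A nontrivial unipotent group has a nonzero primitive function. -/
theorem exists_primitive_of_exhaustive (h : ∀ a : A, ∃ n, a ∈ K k A n) {a : A}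
    (ha : a ≠ CoalgebraStruct.counit (R := k) a • (1 : A)) :
    ∃ x : A, x ≠ 0 ∧ CoalgebraStruct.comul (R := k) x = x ⊗ₜ[k] (1 : A) + (1 : A) ⊗ₜ[k] x := by
  by_contra hne
  push Not at hne
  have h2 : ∀ b ∈ K k A 2, b ∈ K k A 1 := fun b hb => by
    have := exists_primitive hb
    by_cases h0 : b - CoalgebraStruct.counit (R := k) b • (1 : A) = 0
    · rw [sub_eq_zero.1 h0]
      exact Submodule.smul_mem _ _ one_mem_K_one
    · exact absurd this (hne _ h0)
  have hall : ∀ n, K k A n ≤ K k A 1 := fun n => by
    induction n with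
    | zero => exact bot_le
    | succ n ih => exact fun b hb => h2 b (mem_K_succ.2 fun f hf => ih (mem_K_succ.1 hb f hf))
  obtain ⟨n, hn⟩ := h a
  exact ha (eq_counit_smul_one_of_mem_K_one (hall n hn))

end Groth.Agent.UnipHopf
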