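import Groth.Agent.UnipHopfLib.Socle
import Groth.Agent.ComodFlipLib
import Groth.Agent.HopfFFLib.SubHopf

/-!
The socle filtration of a Hopf algebra is multiplicative and stable under the antipode.
-/

set_option autoImplicit false

noncomputable section

universe u v

open TensorProduct HopfRep WithConv
open scoped ComodLib

namespace Groth.Agent.UnipHopf

variable {k : Type u} [Field k] {A : Type v} [CommRing A]

section bialg

variable [Bialgebra k A]

local notation "𝔸" => ComodLib.Dual' k A

theorem mul_mem_range {P Q R : Submodule k A} (h : ∀ p ∈ P, ∀ q ∈ Q, p * q ∈ R) {x y : A ⊗[k] A}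
    (hx : x ∈ LinearMap.range (P.subtype.rTensor A)) (hy : y ∈ LinearMap.range (Q.subtype.rTensor A)) :
    x * y ∈ LinearMap.range (R.subtype.rTensor A) := by
  obtain ⟨x, rfl⟩ := hx
  obtain ⟨y, rfl⟩ := hy
  induction x using TensorProduct.induction_on with
  | zero => simp
  | add a b ha hb => rw [map_add, add_mul]; exact add_mem ha hb
  | tmul p c =>
    induction y using TensorProduct.induction_on with
    | zero => simp
    | add a b ha hb => rw [map_add, mul_add]; exact add_mem ha hb
    | tmul q d =>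
      rw [LinearMap.rTensor_tmul, LinearMap.rTensor_tmul, Algebra.TensorProduct.tmul_mul_tmul]
      exact ⟨⟨_, h p p.2 q q.2⟩ ⊗ₜ[k] (c * d), rfl⟩

theorem mul_mem_K_aux (N : ℕ) : ∀ m n, m + n = N → ∀ a ∈ K k A m, ∀ b ∈ K k A n, a * b ∈ K k A (m + n) := by
  induction N using Nat.strong_induction_on with
  | _ N ih =>
    intro m n hN a ha b hb
    cases m with
    | zero => rw [K_zero, Submodule.mem_bot] at ha; rw [ha, zero_mul]; exact zero_mem _
    | succ m =>
    cases n with
    | zero => rw [K_zero, Submodule.mem_bot] at hb; rw [hb, mul_zero]; exact zero_mem _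
    | succ n =>
    rw [show m + 1 + (n + 1) = (m + n + 1) + 1 by omega]
    refine mem_soc_succ_of_coact_sub ?_
    show CoalgebraStruct.comul (R := k) (a * b) - (a * b) ⊗ₜ[k] (1 : A) ∈ _
    have e : CoalgebraStruct.comul (R := k) (a * b) - (a * b) ⊗ₜ[k] (1 : A) =
        (CoalgebraStruct.comul (R := k) a - a ⊗ₜ[k] (1 : A)) * CoalgebraStruct.comul (R := k) b +
          a ⊗ₜ[k] (1 : A) * (CoalgebraStruct.comul (R := k) b - b ⊗ₜ[k] (1 : A)) := by
      rw [Bialgebra.comul_mul, sub_mul, mul_sub, Algebra.TensorProduct.tmul_mul_tmul, one_mul]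
      abel
    rw [e]
    refine add_mem (mul_mem_range (P := K k A m) (Q := K k A (n + 1)) ?_ (coact_sub_mem_of_mem_soc ha)
        (isSubcomod_soc (n + 1) b hb))
      (mul_mem_range (P := K k A (m + 1)) (Q := K k A n) ?_ ⟨⟨a, ha⟩ ⊗ₜ[k] (1 : A), rfl⟩
        (coact_sub_mem_of_mem_soc hb))
    · intro p hp q hq
      have := ih (m + (n + 1)) (by omega) m (n + 1) rfl p hp q hq
      rwa [show m + (n + 1) = m + n + 1 by omega] at this
    · intro p hp q hq
      have := ih (m + 1 + n) (by omega) (m + 1) n rfl p hp q hq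
      rwa [show m + 1 + n = m + n + 1 by omega] at this

theorem mul_mem_K {m n : ℕ} {a b : A} (ha : a ∈ K k A m) (hb : b ∈ K k A n) : a * b ∈ K k A (m + n) :=
  mul_mem_K_aux (m + n) m n rfl a ha b hb

variable (k A) in
/-- The union of the socles. -/
def unipPart : Subalgebra k A where
  carrier := {a | ∃ n, a ∈ K k A n}
  mul_mem' := by
    rintro a b ⟨m, ha⟩ ⟨n, hb⟩
    exact ⟨m + n, mul_mem_K ha hb⟩
  add_mem' := by
    rintro a b ⟨m, ha⟩ ⟨n, hb⟩
    exact ⟨max m n, add_mem (K_mono (le_max_left m n) ha) (K_mono (le_max_right m n) hb)⟩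
  algebraMap_mem' c := ⟨1, by rw [Algebra.algebraMap_eq_smul_one]; exact Submodule.smul_mem _ _ one_mem_K_one⟩

theorem mem_unipPart {a : A} : a ∈ unipPart k A ↔ ∃ n, a ∈ K k A n := Iff.rfl

/-- Right translations lower the socle filtration by the vanishing of the functional. -/
theorem coeff_mem_K_of_vanish {i : ℕ} (ψ : A →ₗ[k] k) (hψ : ∀ x ∈ K k A i, ψ x = 0) {j : ℕ} {a : A}
    (ha : a ∈ K k A (i + j)) : ComodLib.coeff (A := A) ψ a ∈ K k A j := by
  induction j generalizing a with
  | zero =>
    rw [K_zero, Submodule.mem_bot]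
    by_contra hne
    obtain ⟨g, hg⟩ := ComodLib.exists_dual_ne (k := k) hne
    apply hg
    have h : ψ (toConv g • a) = 0 := hψ _ (smul_mem_K _ ha)
    rw [ComodLib.coeff_apply, ← ComodLib.apply_slice]
    exact h
  | succ j ih =>
    refine mem_K_succ.2 fun f hf => ?_
    rw [← map_smul]
    exact ih (mem_K_succ.1 ha f hf)

theorem coeff_mem_K_pred (g : A →ₗ[k] k) (hg : g 1 = 0) {n : ℕ} {a : A} (ha : a ∈ K k A (n + 1)) :
    ComodLib.coeff (A := A) g a ∈ K k A n := by
  refine coeff_mem_K_of_vanish (i := 1) g (fun x hx => ?_) (by rwa [Nat.add_comm 1 n])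
  rw [eq_counit_smul_one_of_mem_K_one hx, map_smul, hg, smul_zero]

theorem comul_tmul_apply_eq_zero {i j : ℕ} (φ ψ : A →ₗ[k] k) (hφ : ∀ x ∈ K k A i, φ x = 0)
    (hψ : ∀ x ∈ K k A j, ψ x = 0) {a : A} (ha : a ∈ K k A (i + j)) :
    LinearMap.mul' k k (TensorProduct.map φ ψ (CoalgebraStruct.comul (R := k) a)) = 0 := by
  have h : ψ (ComodLib.coeff (A := A) φ a) = 0 := hψ _ (coeff_mem_K_of_vanish φ hφ ha)
  rw [ComodLib.coeff_apply, ← ComodLib.apply_slice] at h
  rw [← h]
  show _ = φ (ComodLib.slice ψ (CoalgebraStruct.comul (R := k) a))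
  generalize CoalgebraStruct.comul (R := k) a = z
  induction z using TensorProduct.induction_on with
  | zero => simp
  | add x y hx hy => simp only [map_add, hx, hy]
  | tmul x y => simp [mul_comm]

theorem exists_primitive {a : A} (ha : a ∈ K k A 2) :
    CoalgebraStruct.comul (R := k) (a - CoalgebraStruct.counit (R := k) a • (1 : A)) =
      (a - CoalgebraStruct.counit (R := k) a • (1 : A)) ⊗ₜ[k] (1 : A) +
        (1 : A) ⊗ₜ[k] (a - CoalgebraStruct.counit (R := k) a • (1 : A)) := by
  refine ComodLib.ext_slice fun f => ?_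
  have h := mem_K_succ.1 ha _ (sub_εF_one (toConv f))
  rw [sub_εF_smul] at h
  have h' := eq_counit_smul_one_of_mem_K_one h
  rw [map_sub, LinearMap.map_smul, ComodLib.counit_smul, sub_eq_iff_eq_add] at h'
  have e : ComodLib.slice f (CoalgebraStruct.comul (R := k) a) = _ := h'
  simp only [map_sub, LinearMap.map_smul, map_add, ComodLib.slice_tmul, Bialgebra.comul_one,
    Algebra.TensorProduct.one_def, smul_eq_mul, e, ofConv_toConv]
  module

theorem mem_K_two_of_primitive {x : A}
    (hx : CoalgebraStruct.comul (R := k) x = x ⊗ₜ[k] (1 : A) + (1 : A) ⊗ₜ[k] x) : x ∈ K k A 2 := by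
  refine mem_K_succ.2 fun f hf => ?_
  rw [ComodLib.smul_eq, show Comod.coact (k := k) (A := A) x = CoalgebraStruct.comul (R := k) x from rfl, hx,
    map_add, ComodLib.slice_tmul, ComodLib.slice_tmul, hf, zero_smul, zero_add]
  exact Submodule.smul_mem _ _ one_mem_K_one

end bialg

section hopf

variable [HopfAlgebra k A]

theorem smul_antipode (f : ComodLib.Dual' k A) (a : A) :
    f • (HopfAlgebraStruct.antipode (R := k) a) = HopfAlgebraStruct.antipode (R := k)
      (ComodLib.coeff (A := A) (f.ofConv ∘ₗ HopfAlgebraStruct.antipode (R := k)) a) := by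
  rw [ComodLib.smul_eq, ComodLib.coeff_apply,
    show Comod.coact (k := k) (A := A) (HopfAlgebraStruct.antipode (R := k) a) =
      CoalgebraStruct.comul (R := k) (HopfAlgebraStruct.antipode (R := k) a) from rfl,
    ComodFlip.comul_antipode_apply, show Comod.coact (k := k) (A := A) a = CoalgebraStruct.comul (R := k) a from rfl]
  generalize CoalgebraStruct.comul (R := k) a = z
  induction z using TensorProduct.induction_on with
  | zero => simp
  | add x y hx hy => simp only [map_add, hx, hy]
  | tmul x y => simp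

theorem antipode_mem_K {n : ℕ} {a : A} (ha : a ∈ K k A n) :
    HopfAlgebraStruct.antipode (R := k) a ∈ K k A n := by
  induction n generalizing a with
  | zero => rw [K_zero, Submodule.mem_bot] at ha ⊢; rw [ha, map_zero]
  | succ n ih =>
    refine mem_K_succ.2 fun f hf => ?_
    rw [smul_antipode]
    exact ih (coeff_mem_K_pred _ (by rw [LinearMap.comp_apply, HopfAlgebra.antipode_one]; exact hf) ha)

theorem isSubHopf_unipPart : HopfFF.IsSubHopf k A (unipPart k A) := by
  refine ⟨fun b hb => ?_, fun b hb => ?_⟩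
  · obtain ⟨n, hn⟩ := hb
    obtain ⟨z, hz⟩ := isSubcoalg_K n b hn
    let ι : K k A n →ₗ[k] (unipPart k A) :=
      { toFun := fun x => ⟨x, n, x.2⟩
        map_add' := fun _ _ => rfl
        map_smul' := fun _ _ => rfl }
    refine ⟨TensorProduct.map ι ι z, ?_⟩
    rw [← hz, TensorProduct.map_map]
    rfl
  · obtain ⟨n, hn⟩ := hb
    exact ⟨n, antipode_mem_K hn⟩

end hopf

section restrict

variable {B : Type*} [CommRing B] [Bialgebra k B]

theorem mem_K_of_injective [Bialgebra k A] (φ : B →ₐc[k] A) (hφ : Function.Injective φ) {n : ℕ} {b : B}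
    (hb : φ b ∈ K k A n) : b ∈ K k B n := by
  induction n generalizing b with
  | zero => rw [K_zero, Submodule.mem_bot] at hb ⊢; exact hφ (by rw [hb, map_zero])
  | succ n ih =>
    refine mem_K_succ.2 fun g hg => ih ?_
    obtain ⟨π, hπ⟩ := LinearMap.exists_leftInverse_of_injective (φ : B →ₗ[k] A) (LinearMap.ker_eq_bot.2 hφ)
    let f : A →ₗ[k] k := g.ofConv ∘ₗ π
    have hf : f ∘ₗ (φ : B →ₗ[k] A) = g.ofConv := by rw [LinearMap.comp_assoc, hπ, LinearMap.comp_id]
    have hf1 : f 1 = 0 := by
      rw [← map_one φ, ← hg]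
      exact LinearMap.congr_fun hf 1
    have e : φ (g • b) = toConv f • φ b := by
      rw [ComodLib.smul_eq, ComodLib.smul_eq,
        show Comod.coact (k := k) (A := A) (φ b) = CoalgebraStruct.comul (R := k) (φ b) from rfl,
        ← CoalgHomClass.map_comp_comul_apply φ, show Comod.coact (k := k) (A := B) b = CoalgebraStruct.comul (R := k) b from rfl]
      generalize CoalgebraStruct.comul (R := k) b = z
      induction z using TensorProduct.induction_on with
      | zero => simp
      | add x y hx hy => simp only [map_add, hx, hy]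
      | tmul x y =>
        have : f (φ y) = g.ofConv y := LinearMap.congr_fun hf y
        simp [this]
    rw [e]
    exact mem_K_succ.1 hb _ hf1

theorem map_mem_K [Bialgebra k A] (φ : B →ₐc[k] A) {n : ℕ} {b : B} (hb : b ∈ K k B n) : φ b ∈ K k A n := by
  induction n generalizing b with
  | zero => rw [K_zero, Submodule.mem_bot] at hb ⊢; rw [hb, map_zero]
  | succ n ih =>
    refine mem_K_succ.2 fun f hf => ?_
    have e : f • φ b = φ (toConv (f.ofConv ∘ₗ (φ : B →ₗ[k] A)) • b) := by
      rw [ComodLib.smul_eq, ComodLib.smul_eq,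
        show Comod.coact (k := k) (A := A) (φ b) = CoalgebraStruct.comul (R := k) (φ b) from rfl,
        ← CoalgHomClass.map_comp_comul_apply φ, show Comod.coact (k := k) (A := B) b = CoalgebraStruct.comul (R := k) b from rfl]
      generalize CoalgebraStruct.comul (R := k) b = z
      induction z using TensorProduct.induction_on with
      | zero => simp
      | add x y hx hy => simp only [map_add, hx, hy]
      | tmul x y => simp
    rw [e]
    refine ih (mem_K_succ.1 hb _ ?_)
    show f.ofConv (φ 1) = 0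
    rw [map_one]
    exact hf

end restrict

/-- The unipotent part is unipotent. -/
theorem exists_unipotent_part {A : Type v} [CommRing A] [HopfAlgebra k A] :
    ∃ (B : Type v) (_ : CommRing B) (_ : HopfAlgebra k B) (φ : B →ₐc[k] A), Function.Injective φ ∧
      (∀ a, a ∈ Set.range φ ↔ ∃ n, a ∈ K k A n) ∧ IsUnipotent k B := by
  letI := HopfFF.hopfAlgebra (isSubHopf_unipPart (k := k) (A := A))
  let φ : ↥(unipPart k A) →ₐc[k] A := BialgHom.ofAlgHom (unipPart k A).val (AlgHom.ext fun _ => rfl)
    (AlgHom.ext fun b => HopfFF.map_δB isSubHopf_unipPart b)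
  refine ⟨↥(unipPart k A), inferInstance, inferInstance, φ, Subtype.val_injective, fun a => ⟨?_, fun h => ⟨⟨a, h⟩, rfl⟩⟩, ?_⟩
  · rintro ⟨b, rfl⟩
    exact b.2
  · exact isUnipotent_of_exhaustive fun b => b.2.imp fun n hn => mem_K_of_injective φ Subtype.val_injective hn

end Groth.Agent.UnipHopf
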