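import Groth.Agent.UnipHopfLib.Socle
import Mathlib.RingTheory.Bialgebra.TensorProduct
import Mathlib.RingTheory.HopfAlgebra.TensorProduct

/-!
The socle filtration commutes with extensions of the base field.
-/

set_option autoImplicit false

noncomputable section

universe u v

open TensorProduct HopfRep WithConv
open scoped ComodLib

namespace Groth.Agent.UnipHopf

variable {k : Type u} [Field k] {k' : Type u} [Field k'] [Algebra k k'] {A : Type v} [CommRing A] [Bialgebra k A]

/-- The square of the inclusion of `A` into its base change. -/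
def incSq : A ⊗[k] A →ₗ[k] (k' ⊗[k] A) ⊗[k'] (k' ⊗[k] A) :=
  TensorProduct.lift (LinearMap.mk₂ k (fun a b => ((1 : k') ⊗ₜ[k] a) ⊗ₜ[k'] ((1 : k') ⊗ₜ[k] b))
    (fun a b c => by rw [TensorProduct.tmul_add, TensorProduct.add_tmul])
    (fun r a b => by rw [TensorProduct.tmul_smul]; exact (TensorProduct.smul_tmul' r _ _).symm)
    (fun a b c => by rw [TensorProduct.tmul_add, TensorProduct.tmul_add])
    (fun r a b => by rw [TensorProduct.tmul_smul, TensorProduct.tmul_smul]))

@[simp] theorem incSq_tmul (a b : A) :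
    incSq (k := k) (k' := k') (a ⊗ₜ b) = ((1 : k') ⊗ₜ[k] a) ⊗ₜ[k'] ((1 : k') ⊗ₜ[k] b) := rfl

theorem comul_one_tmul (a : A) :
    CoalgebraStruct.comul (R := k') ((1 : k') ⊗ₜ[k] a) = incSq (k' := k') (CoalgebraStruct.comul (R := k) a) := by
  rw [TensorProduct.comul_tmul, CommSemiring.comul_apply]
  generalize CoalgebraStruct.comul (R := k) a = z
  induction z using TensorProduct.induction_on with
  | zero => simp
  | add x y hx hy => simp only [TensorProduct.tmul_add, map_add, hx, hy]
  | tmul p q => rw [TensorProduct.AlgebraTensorModule.tensorTensorTensorComm_tmul, incSq_tmul]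

theorem one_tmul_mem_K {n : ℕ} {a : A} (ha : a ∈ K k A n) :
    (1 : k') ⊗ₜ[k] a ∈ K k' (k' ⊗[k] A) n := by
  induction n generalizing a with
  | zero => rw [K_zero, Submodule.mem_bot] at ha ⊢; rw [ha, TensorProduct.tmul_zero]
  | succ n ih =>
    refine mem_soc_succ_of_coact_sub ?_
    show CoalgebraStruct.comul (R := k') ((1 : k') ⊗ₜ[k] a) - ((1 : k') ⊗ₜ[k] a) ⊗ₜ[k'] (1 : k' ⊗[k] A) ∈ _
    rw [comul_one_tmul, Algebra.TensorProduct.one_def, ← incSq_tmul, ← map_sub]
    obtain ⟨z, hz⟩ : CoalgebraStruct.comul (R := k) a - a ⊗ₜ[k] (1 : A) ∈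
        LinearMap.range ((K k A n).subtype.rTensor A) := coact_sub_mem_of_mem_soc ha
    rw [← hz]
    clear hz
    induction z using TensorProduct.induction_on with
    | zero => simp
    | add x y hx hy => rw [map_add, map_add]; exact add_mem hx hy
    | tmul p q =>
      rw [LinearMap.rTensor_tmul, incSq_tmul]
      exact ⟨⟨_, ih p.2⟩ ⊗ₜ[k'] _, rfl⟩

/-- The extension of a functional. -/
def extF (f : ComodLib.Dual' k A) : ComodLib.Dual' k' (k' ⊗[k] A) :=
  toConv ((TensorProduct.AlgebraTensorModule.rid k k' k').toLinearMap ∘ₗ f.ofConv.baseChange k')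

theorem extF_tmul (f : ComodLib.Dual' k A) (c : k') (a : A) :
    extF f (c ⊗ₜ[k] a) = f a • c := by
  simp [extF]

theorem extF_smul_one_tmul (f : ComodLib.Dual' k A) (a : A) :
    extF (k' := k') f • ((1 : k') ⊗ₜ[k] a) = (1 : k') ⊗ₜ[k] (f • a) := by
  rw [ComodLib.smul_eq, ComodLib.smul_eq,
    show Comod.coact (k := k') (A := k' ⊗[k] A) ((1 : k') ⊗ₜ[k] a) = CoalgebraStruct.comul (R := k') ((1 : k') ⊗ₜ[k] a) from rfl,
    comul_one_tmul, show Comod.coact (k := k) (A := A) a = CoalgebraStruct.comul (R := k) a from rfl]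
  generalize CoalgebraStruct.comul (R := k) a = z
  induction z using TensorProduct.induction_on with
  | zero => simp
  | add x y hx hy => simp only [map_add, hx, hy, TensorProduct.tmul_add]
  | tmul p q =>
    rw [incSq_tmul, ComodLib.slice_tmul, ComodLib.slice_tmul, show (extF (k' := k') f).ofConv ((1 : k') ⊗ₜ[k] q) =
      f.ofConv q • (1 : k') from extF_tmul f 1 q, smul_assoc, one_smul, TensorProduct.tmul_smul]

theorem extF_smul_sliceL (f : ComodLib.Dual' k A) (g : k' →ₗ[k] k) (z : k' ⊗[k] A) :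
    ComodLib.sliceL g (extF (k' := k') f • z) = f • ComodLib.sliceL g z := by
  induction z using TensorProduct.induction_on with
  | zero => simp
  | add x y hx hy => simp only [smul_add, map_add, hx, hy]
  | tmul c a =>
    have e : c ⊗ₜ[k] a = c • ((1 : k') ⊗ₜ[k] a) := by rw [TensorProduct.smul_tmul', smul_eq_mul, mul_one]
    rw [e, smul_comm, extF_smul_one_tmul, TensorProduct.smul_tmul', TensorProduct.smul_tmul', smul_eq_mul, mul_one,
      ComodLib.sliceL_tmul, ComodLib.sliceL_tmul, smul_comm]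

theorem sliceL_mem_K (g : k' →ₗ[k] k) {n : ℕ} {z : k' ⊗[k] A} (hz : z ∈ K k' (k' ⊗[k] A) n) :
    ComodLib.sliceL g z ∈ K k A n := by
  induction n generalizing z with
  | zero => rw [K_zero, Submodule.mem_bot] at hz ⊢; rw [hz, map_zero]
  | succ n ih =>
    refine mem_K_succ.2 fun f hf => ?_
    rw [← extF_smul_sliceL]
    refine ih (mem_K_succ.1 hz _ ?_)
    rw [Algebra.TensorProduct.one_def, extF_tmul, hf, zero_smul]

theorem mem_K_of_one_tmul {n : ℕ} {a : A} (ha : (1 : k') ⊗ₜ[k] a ∈ K k' (k' ⊗[k] A) n) : a ∈ K k A n := by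
  obtain ⟨g, hg⟩ := LinearMap.exists_leftInverse_of_injective (Algebra.linearMap k k')
    (LinearMap.ker_eq_bot.2 (algebraMap k k').injective)
  have := sliceL_mem_K g ha
  rwa [ComodLib.sliceL_tmul, show g 1 = 1 by
    have h := LinearMap.congr_fun hg 1
    simpa using h, one_smul] at this

theorem mem_K_baseChange_iff {n : ℕ} {z : k' ⊗[k] A} :
    z ∈ K k' (k' ⊗[k] A) n ↔ z ∈ LinearMap.range ((K k A n).subtype.lTensor k') := by
  refine ⟨fun h => (ComodLib.mem_range_lTensor_iff _ _).2 fun g => sliceL_mem_K g h, ?_⟩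
  rintro ⟨w, rfl⟩
  induction w using TensorProduct.induction_on with
  | zero => simp
  | add x y hx hy => rw [map_add]; exact add_mem hx hy
  | tmul c a =>
    rw [LinearMap.lTensor_tmul, Submodule.subtype_apply, show c ⊗ₜ[k] (a : A) = c • ((1 : k') ⊗ₜ[k] (a : A)) by
      rw [TensorProduct.smul_tmul', smul_eq_mul, mul_one]]
    exact Submodule.smul_mem _ _ (one_tmul_mem_K a.2)

theorem exhaustive_baseChange (h : ∀ a : A, ∃ n, a ∈ K k A n) (z : k' ⊗[k] A) :
    ∃ n, z ∈ K k' (k' ⊗[k] A) n := by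
  induction z using TensorProduct.induction_on with
  | zero => exact ⟨0, zero_mem _⟩
  | add x y hx hy =>
    obtain ⟨m, hm⟩ := hx
    obtain ⟨n, hn⟩ := hy
    exact ⟨max m n, add_mem (K_mono (le_max_left m n) hm) (K_mono (le_max_right m n) hn)⟩
  | tmul c a =>
    obtain ⟨n, hn⟩ := h a
    refine ⟨n, ?_⟩
    rw [show c ⊗ₜ[k] a = c • ((1 : k') ⊗ₜ[k] a) by rw [TensorProduct.smul_tmul', smul_eq_mul, mul_one]]
    exact Submodule.smul_mem _ _ (one_tmul_mem_K hn)

end Groth.Agent.UnipHopf
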