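import Groth.Agent.UnipHopfLib.Alg
import Groth.Agent.UnipHopfLib.BaseChange
import Mathlib.LinearAlgebra.Eigenspace.Pi
import Mathlib.LinearAlgebra.Eigenspace.Triangularizable
import Mathlib.RingTheory.Artinian.Module
import Mathlib.RingTheory.HopfAlgebra.GroupLike

/-!
Over an algebraically closed field, a commutative and cocommutative Hopf algebra is spanned by the translates of
its unipotent part by group-like elements.
-/

set_option autoImplicit false

noncomputable section

universe u v

open TensorProduct HopfRep WithConv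
open scoped ComodLib

namespace Groth.Agent.UnipHopf

variable {k : Type u} [Field k] {A : Type v} [CommRing A]

theorem isCocomm_baseChange [Bialgebra k A] [Coalgebra.IsCocomm k A] (k' : Type u) [Field k'] [Algebra k k'] :
    Coalgebra.IsCocomm k' (k' ⊗[k] A) := by
  refine ⟨LinearMap.ext fun z => ?_⟩
  show TensorProduct.comm k' (k' ⊗[k] A) (k' ⊗[k] A) (CoalgebraStruct.comul (R := k') z) = _
  induction z using TensorProduct.induction_on with
  | zero => simp
  | add x y hx hy => simp only [map_add, hx, hy]
  | tmul c a =>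
    rw [show c ⊗ₜ[k] a = c • ((1 : k') ⊗ₜ[k] a) by rw [TensorProduct.smul_tmul', smul_eq_mul, mul_one], map_smul,
      map_smul, comul_one_tmul]
    congr 1
    conv_rhs => rw [← Coalgebra.comm_comul (R := k) a]
    generalize CoalgebraStruct.comul (R := k) a = w
    induction w using TensorProduct.induction_on with
    | zero => simp
    | add x y hx hy => simp only [map_add, hx, hy]
    | tmul p q => rfl

section bialg

variable [Bialgebra k A]

local notation "𝔸" => ComodLib.Dual' k A

theorem dual_mul_comm [Coalgebra.IsCocomm k A] (f g : 𝔸) : f * g = g * f := by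
  refine WithConv.ext (LinearMap.ext fun a => ?_)
  show (f * g) a = (g * f) a
  rw [LinearMap.convMul_apply, LinearMap.convMul_apply]
  conv_lhs => rw [← Coalgebra.comm_comul (R := k) a]
  generalize CoalgebraStruct.comul (R := k) a = w
  induction w using TensorProduct.induction_on with
  | zero => simp
  | add x y hx hy => simp only [map_add, hx, hy]
  | tmul p q => simp [mul_comm]

theorem smul_groupLike_mul {x : A} (hx : IsGroupLikeElem k x) (h : 𝔸) (a : A) :
    h • (x * a) = x * ((toConv (h.ofConv ∘ₗ LinearMap.mulLeft k x) : 𝔸) • a) := by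
  rw [ComodLib.smul_eq, ComodLib.smul_eq,
    show Comod.coact (k := k) (A := A) (x * a) = CoalgebraStruct.comul (R := k) (x * a) from rfl,
    show Comod.coact (k := k) (A := A) a = CoalgebraStruct.comul (R := k) a from rfl,
    Bialgebra.comul_mul, hx.comul_eq_tmul_self]
  generalize CoalgebraStruct.comul (R := k) a = w
  induction w using TensorProduct.induction_on with
  | zero => simp
  | add p q hp hq => simp only [mul_add, map_add, hp, hq]
  | tmul p q => simp [Algebra.TensorProduct.tmul_mul_tmul]

end bialg

section hopf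

variable [HopfAlgebra k A] [Coalgebra.IsCocomm k A] [IsAlgClosed k]

local notation "𝔸" => ComodLib.Dual' k A

omit [HopfAlgebra k A] [Coalgebra.IsCocomm k A] [IsAlgClosed k] in
/-- Engel's theorem for a commuting family of endomorphisms. -/
theorem exists_flag {M : Type*} [AddCommGroup M] [Module k M] [FiniteDimensional k M] {ι : Type*}
    (L : ι → Module.End k M) (hc : ∀ i j, Commute (L i) (L j)) (E : Submodule k M)
    (hE : ∀ i, ∀ x ∈ E, L i x ∈ E) (hn : ∀ i, ∀ x ∈ E, ∃ m : ℕ, (L i ^ m) x = 0) :
    ∃ W : ℕ → Submodule k M, W 0 = ⊥ ∧ (∀ j, ∀ x ∈ W (j + 1), ∀ i, L i x ∈ W j) ∧ ∀ x ∈ E, ∃ N, x ∈ W N := by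
  classical
  let W : ℕ → Submodule k M := fun n => Nat.rec ⊥ (fun _ Q => ⨅ i, Q.comap (L i)) n
  have hWs : ∀ j x, x ∈ W (j + 1) ↔ ∀ i, L i x ∈ W j := fun j x => by
    show x ∈ (⨅ i, (W j).comap (L i)) ↔ _
    rw [Submodule.mem_iInf]
    rfl
  have hinv : ∀ j, ∀ x ∈ W j, ∀ i, L i x ∈ W j := fun j => by
    induction j with
    | zero =>
      intro x hx i
      have hx' : x ∈ (⊥ : Submodule k M) := hx
      rw [Submodule.mem_bot] at hx'
      rw [hx', map_zero]
      exact zero_mem _
    | succ j ih =>
      intro x hx i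
      exact (hWs j _).2 fun l => by
        have h1 : L l (L i x) = L i (L l x) := LinearMap.congr_fun (hc l i) x
        rw [h1]
        exact ih _ ((hWs j x).1 hx l) i
  have hmono : Monotone W := monotone_nat_of_le_succ fun j x hx => (hWs j x).2 fun i => hinv j x hx i
  obtain ⟨N, hN⟩ := monotone_stabilizes_iff_noetherian.mpr inferInstance (⟨W, hmono⟩ : ℕ →o Submodule k M)
  refine ⟨W, rfl, fun j x hx i => (hWs j x).1 hx i, fun x hxE => ⟨N, ?_⟩⟩
  by_contra hxN
  obtain ⟨c, hcsub, hcspan⟩ : ∃ c : Set (Module.End k M), c ⊆ Set.range L ∧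
      c.Finite ∧ Submodule.span k c = Submodule.span k (Set.range L) := by
    obtain ⟨c, h1, h2, h3⟩ := exists_linearIndependent k (Set.range L)
    exact ⟨c, h1, h3.setFinite, h2⟩
  obtain ⟨y, hyE, hyN, hy⟩ : ∃ y ∈ E, y ∉ W N ∧ ∀ l ∈ hcspan.1.toFinset, l y ∈ W N := by
    have hsub : ∀ l ∈ hcspan.1.toFinset, ∃ i, L i = l := fun l hl => hcsub ((Set.Finite.mem_toFinset _).1 hl)
    generalize hcspan.1.toFinset = s at hsub
    induction s using Finset.induction_on with
    | empty => exact ⟨x, hxE, hxN, by simp⟩
    | @insert l s _ ih =>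
      obtain ⟨y, hyE, hyN, hy⟩ := ih fun l hl => hsub l (Finset.mem_insert_of_mem hl)
      obtain ⟨i, rfl⟩ := hsub l (Finset.mem_insert_self _ _)
      have hmemE : ∀ m, (L i ^ m) y ∈ E := fun m => by
        induction m with
        | zero => exact hyE
        | succ m ih => rw [pow_succ', Module.End.mul_apply]; exact hE i _ ih
      obtain ⟨m, hm⟩ := hn i y hyE
      have hex : ∃ m, (L i ^ m) y ∈ W N := ⟨m, by rw [hm]; exact zero_mem _⟩
      obtain ⟨j, hj⟩ := Nat.exists_eq_succ_of_ne_zero (n := Nat.find hex) fun h0 => hyN (by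
        simpa [h0] using Nat.find_spec hex)
      refine ⟨(L i ^ j) y, hmemE j, Nat.find_min hex (by omega), fun l hl => ?_⟩
      rcases Finset.mem_insert.1 hl with rfl | hl
      · have := Nat.find_spec hex
        rw [hj, pow_succ', Module.End.mul_apply] at this
        exact this
      · obtain ⟨i', rfl⟩ := hsub l (Finset.mem_insert_of_mem hl)
        have h1 : L i' ((L i ^ j) y) = (L i ^ j) (L i' y) := LinearMap.congr_fun ((hc i' i).pow_right j) y
        rw [h1]
        clear hmemE hex hj h1
        induction j with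
        | zero => exact hy _ hl
        | succ j ihj => rw [pow_succ', Module.End.mul_apply]; exact hinv N _ ihj i
  apply hyN
  rw [show W N = W (N + 1) from hN (N + 1) (Nat.le_succ N), hWs]
  intro i
  have hi : L i ∈ Submodule.span k c := hcspan.2 ▸ Submodule.subset_span ⟨i, rfl⟩
  have hle : Submodule.span k c ≤ (W N).comap (LinearMap.applyₗ y) :=
    Submodule.span_le.2 fun l hl => hy l ((Set.Finite.mem_toFinset _).2 hl)
  exact hle hi

variable (k A) in
/-- The span of the translates of the unipotent part by group-like elements. -/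
def glSpan : Submodule k A :=
  Submodule.span k {x | ∃ g u : A, IsGroupLikeElem k g ∧ (∃ n, u ∈ K k A n) ∧ x = g * u}

theorem mem_glSpan (a : A) : a ∈ glSpan k A := by
  classical
  let S : Submodule k A := (Submodule.span 𝔸 ({a} : Set A)).restrictScalars k
  haveI : FiniteDimensional k S := ComodLib.finite_span_singleton A a
  have hS : ∀ f : 𝔸, ∀ v ∈ S, f • v ∈ S := fun f v hv => Submodule.smul_mem _ f hv
  let T : 𝔸 → Module.End k S := fun f =>
    ((ComodLib.actAlgHom k A A f).domRestrict S).codRestrict S fun v => hS f v v.2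
  have hT : ∀ f (v : S), (T f v : A) = f • (v : A) := fun f v => rfl
  have hcomm : ∀ f g, Commute (T f) (T g) := fun f g => LinearMap.ext fun v => Subtype.ext (by
    rw [Module.End.mul_apply, Module.End.mul_apply, hT, hT, hT, hT, ← mul_smul, ← mul_smul, dual_mul_comm])
  have htop := Module.End.iSup_iInf_maxGenEigenspace_eq_top_of_iSup_maxGenEigenspace_eq_top_of_commute T
    (fun f g _ => hcomm f g) (fun f => Module.End.iSup_maxGenEigenspace_eq_top _)
  suffices h : ∀ χ : 𝔸 → k, (⨅ f, (T f).maxGenEigenspace (χ f)) ≤ (glSpan k A).comap S.subtype by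
    have h1 : (⟨a, Submodule.mem_span_singleton_self a⟩ : S) ∈ (glSpan k A).comap S.subtype :=
      iSup_le h (htop ▸ Submodule.mem_top)
    exact h1
  intro χ
  let E : Submodule k S := ⨅ f, (T f).maxGenEigenspace (χ f)
  rcases eq_or_ne E ⊥ with h0 | h0
  · exact h0.le.trans bot_le
  intro e he
  have hmap : ∀ f, ∀ x ∈ E, T f x ∈ E := fun f x hx => by
    simp only [E, Submodule.mem_iInf] at hx ⊢
    exact fun g => Module.End.mapsTo_maxGenEigenspace_of_comm (hcomm g f) (χ g) (hx g)
  let L : 𝔸 → Module.End k S := fun f => T f - χ f • (1 : Module.End k S)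
  have hLx : ∀ f (x : S), L f x = T f x - χ f • x := fun f x => rfl
  have hLcomm : ∀ f g, Commute (L f) (L g) := fun f g => by
    refine LinearMap.ext fun x => ?_
    have h := LinearMap.congr_fun (hcomm f g) x
    simp only [Module.End.mul_apply] at h
    simp only [Module.End.mul_apply, hLx, map_sub, map_smul, h]
    module
  obtain ⟨W, hW0, hWs, hWE⟩ := exists_flag L hLcomm E
    (fun f x hx => by rw [hLx]; exact sub_mem (hmap f x hx) (Submodule.smul_mem _ _ hx))
    (fun f x hx => (Module.End.mem_maxGenEigenspace _ _ _).1 ((Submodule.mem_iInf _).1 hx f))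
  -- a common eigenvector
  obtain ⟨x₀, hx₀, hx₀0⟩ := (Submodule.ne_bot_iff E).1 h0
  obtain ⟨w, hw0, hw⟩ : ∃ w : S, w ≠ 0 ∧ ∀ f, L f w = 0 := by
    obtain ⟨N, hN⟩ := hWE x₀ hx₀
    by_contra hne
    push Not at hne
    have : ∀ j, W j = ⊥ := fun j => by
      induction j with
      | zero => exact hW0
      | succ j ih =>
        refine eq_bot_iff.2 fun x hx => ?_
        by_contra hx0
        rw [Submodule.mem_bot] at hx0
        obtain ⟨f, hf⟩ := hne x hx0
        have := hWs j x hx f
        rw [ih, Submodule.mem_bot] at this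
        exact hf this
    rw [this N, Submodule.mem_bot] at hN
    exact hx₀0 hN
  let v : A := (w : A)
  have hv : ∀ f : 𝔸, f • v = χ f • v := fun f => by
    have := congrArg (fun z : S => (z : A)) (hw f)
    simpa [hLx, sub_eq_zero, hT, v] using this
  have hεv : CoalgebraStruct.counit (R := k) v ≠ 0 := by
    intro h
    have hv0 : v ≠ 0 := fun hh => hw0 (Subtype.ext hh)
    obtain ⟨g, hg⟩ := ComodLib.exists_dual_ne (k := k) hv0
    apply hg
    have := congrArg (CoalgebraStruct.counit (R := k)) (hv (toConv g))
    rw [ComodLib.counit_smul, LinearMap.map_smul, h, smul_zero] at this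
    exact this
  let g : A := (CoalgebraStruct.counit (R := k) v)⁻¹ • v
  have hεg : CoalgebraStruct.counit (R := k) g = 1 := by
    rw [LinearMap.map_smul, smul_eq_mul, inv_mul_cancel₀ hεv]
  have hfg : ∀ f : 𝔸, f (g : A) = χ f := fun f => by
    have := congrArg (CoalgebraStruct.counit (R := k)) (hv f)
    rw [ComodLib.counit_smul, LinearMap.map_smul, smul_eq_mul] at this
    show f.ofConv g = χ f
    rw [LinearMap.map_smul, smul_eq_mul, show f.ofConv v = _ from this, mul_comm (χ f), ← mul_assoc,
      inv_mul_cancel₀ hεv, one_mul]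
  have hg : IsGroupLikeElem k g := by
    refine ⟨hεg, ComodLib.ext_slice fun f => ?_⟩
    rw [ComodLib.slice_tmul]
    show (toConv f : 𝔸) • g = f g • g
    rw [show f g = χ (toConv f) from hfg (toConv f)]
    show (toConv f : 𝔸) • ((CoalgebraStruct.counit (R := k) v)⁻¹ • v) = _
    rw [smul_comm, hv, smul_comm]
  -- translates of the component
  let g' := HopfAlgebraStruct.antipode (R := k) g
  have hg' : IsGroupLikeElem k g' := hg.antipode
  have key : ∀ j, ∀ x ∈ W j, g' * ((x : S) : A) ∈ K k A j := by
    intro j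
    induction j with
    | zero =>
      intro x hx
      rw [hW0, Submodule.mem_bot] at hx
      simp [hx]
    | succ j ih =>
      intro x hx
      refine mem_K_succ.2 fun h hh => ?_
      rw [smul_groupLike_mul hg']
      let f : 𝔸 := toConv (h.ofConv ∘ₗ LinearMap.mulLeft k g')
      have hf : χ f = 0 := by
        rw [← hfg]
        show h.ofConv (g' * g) = 0
        rw [hg.antipode_mul_cancel]
        exact hh
      have e : f • ((x : S) : A) = ((L f x : S) : A) := by simp [hLx, hf, hT]
      rw [e]
      exact ih _ (hWs j x hx f)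
  obtain ⟨N, hN⟩ := hWE e he
  have hu := key N e hN
  refine Submodule.subset_span ⟨g, g' * (e : A), hg, ⟨N, hu⟩, ?_⟩
  rw [← mul_assoc, hg.mul_antipode_cancel, one_mul]
  rfl

end hopf

end Groth.Agent.UnipHopf
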