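import Groth.Agent.UnipHopfLib.Alg
import Mathlib.RingTheory.Polynomial.Pochhammer
import Mathlib.RingTheory.Jacobson.Ring
import Mathlib.FieldTheory.IsAlgClosed.Basic
import Mathlib.Algebra.CharP.Lemmas
import Mathlib.Algebra.CharP.Algebra
import Mathlib.Data.Nat.Choose.Sum
import Mathlib.Algebra.Polynomial.Roots

/-!
Powers of points of unipotent groups.
-/

set_option autoImplicit false

noncomputable section

universe u v w

open TensorProduct HopfRep WithConv
open scoped ComodLib

namespace Groth.Agent.UnipHopf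

variable {k : Type u} [Field k] {A : Type v} [CommRing A] [Bialgebra k A]

local notation "𝔸" => ComodLib.Dual' k A

/-- A point as an element of the convolution algebra. -/
def pointF (g : WithConv (A →ₐ[k] k)) : 𝔸 := toConv g.ofConv.toLinearMap

theorem pointF_pow (g : WithConv (A →ₐ[k] k)) (m : ℕ) : pointF (g ^ m) = pointF g ^ m :=
  AlgHom.toLinearMap_convPow g m

theorem pointF_one (g : WithConv (A →ₐ[k] k)) : pointF g (1 : A) = 1 := map_one g.ofConv

/-- Powers of an augmented element kill the socle filtration. -/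
theorem pow_smul_mem_K (x : 𝔸) (hx : x (1 : A) = 0) : ∀ (i n : ℕ), ∀ a ∈ K k A (n + i), x ^ i • a ∈ K k A n := by
  intro i
  induction i with
  | zero => intro n a ha; rw [pow_zero, one_smul]; exact ha
  | succ i ih =>
    intro n a ha
    rw [pow_succ, mul_smul]
    exact ih n _ (mem_K_succ.1 ha x hx)

theorem pow_apply_eq_zero (x : 𝔸) (hx : x (1 : A) = 0) {i n : ℕ} (hi : n ≤ i) {a : A} (ha : a ∈ K k A n) :
    (x ^ i) a = 0 := by
  have h := pow_smul_mem_K x hx i 0 a (K_mono (by omega) ha)
  rw [K_zero, Submodule.mem_bot] at h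
  rw [← ComodLib.counit_smul, h, map_zero]

theorem point_sub_one (g : WithConv (A →ₐ[k] k)) : (pointF g - 1) (1 : A) = 0 := by
  show (pointF g) (1 : A) - (1 : 𝔸) (1 : A) = 0
  rw [pointF_one, LinearMap.convOne_apply, Bialgebra.counit_one, map_one, sub_self]

theorem exists_poly [CharZero k] (hK : ∀ a : A, ∃ n, a ∈ K k A n) (g : WithConv (A →ₐ[k] k)) (a : A) :
    ∃ P : Polynomial k, ∀ m : ℕ, P.eval (m : k) = (g ^ m) a := by
  obtain ⟨n, hn⟩ := hK a
  let x : 𝔸 := pointF g - 1
  refine ⟨∑ i ∈ Finset.range n, Polynomial.C ((x ^ i) a * (Nat.factorial i : k)⁻¹) * descPochhammer k i, fun m => ?_⟩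
  have h1 : (g ^ m) a = ((x + 1) ^ m) a := by
    rw [sub_add_cancel, ← pointF_pow]
    rfl
  rw [h1, (Commute.one_right x).add_pow, Polynomial.eval_finsetSum]
  simp only [one_pow, mul_one]
  have hcast : ∀ i, ((x ^ i * (m.choose i : 𝔸)) : 𝔸) = (m.choose i : k) • x ^ i := fun i => by
    rw [Algebra.smul_def, map_natCast, Nat.cast_comm]
  simp only [hcast]
  have h2 : (∑ i ∈ Finset.range (m + 1), (m.choose i : k) • x ^ i : 𝔸) a =
      ∑ i ∈ Finset.range (m + 1), (m.choose i : k) * (x ^ i) a := by
    let evA : 𝔸 →ₗ[k] k := { toFun := fun f => f a, map_add' := fun _ _ => rfl, map_smul' := fun _ _ => rfl }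
    show evA _ = _
    rw [map_sum]
    rfl
  rw [h2]
  have hterm : ∀ i, (Polynomial.C ((x ^ i) a * (Nat.factorial i : k)⁻¹) * descPochhammer k i).eval (m : k) =
      (m.choose i : k) * (x ^ i) a := fun i => by
    rw [Polynomial.eval_mul, Polynomial.eval_C, descPochhammer_eval_eq_descFactorial,
      Nat.descFactorial_eq_factorial_mul_choose, Nat.cast_mul, mul_assoc, ← mul_assoc (_⁻¹ : k),
      inv_mul_cancel₀ (Nat.cast_ne_zero.2 i.factorial_pos.ne'), one_mul, mul_comm]
  simp only [hterm]
  refine Eq.trans (Finset.sum_subset (s₂ := Finset.range (max n (m + 1))) (Finset.range_subset_range.2 (le_max_left _ _))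
      fun i _ hi => ?_) (Finset.sum_subset (Finset.range_subset_range.2 (le_max_right _ _)) fun i _ hi => ?_).symm
  · rw [Finset.mem_range, not_lt] at hi
    rw [pow_apply_eq_zero x (point_sub_one g) hi hn, mul_zero]
  · rw [Finset.mem_range, not_lt] at hi
    rw [Nat.choose_eq_zero_of_lt (by omega), Nat.cast_zero, zero_mul]

theorem poly_ext [CharZero k] {P Q : Polynomial k} (h : ∀ m : ℕ, P.eval (m : k) = Q.eval (m : k)) : P = Q :=
  Polynomial.eq_of_infinite_eval_eq P Q (Set.infinite_of_injective_forall_mem Nat.cast_injective h)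

/-- The one-parameter subgroup through a point. -/
theorem exists_path [CharZero k] (hK : ∀ a : A, ∃ n, a ∈ K k A n) (g : WithConv (A →ₐ[k] k)) :
    ∃ φ : A →ₐ[k] Polynomial k, ∀ (m : ℕ) (a : A), (φ a).eval (m : k) = (g ^ m) a := by
  choose P hP using exists_poly hK g
  have h : ∀ (m : ℕ) (a : A), (P a).eval (m : k) = (g ^ m).ofConv a := fun m a => hP a m
  exact ⟨{ toFun := P
           map_one' := poly_ext fun m => by rw [h, map_one, Polynomial.eval_one]
           map_mul' := fun a b => poly_ext fun m => by rw [Polynomial.eval_mul, h, h, h, map_mul]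
           map_zero' := poly_ext fun m => by rw [h, map_zero, Polynomial.eval_zero]
           map_add' := fun a b => poly_ext fun m => by rw [Polynomial.eval_add, h, h, h, map_add]
           commutes' := fun c => poly_ext fun m => by
             rw [h, AlgHom.commutes, Polynomial.algebraMap_eq, Polynomial.eval_C]
             rfl }, h⟩

/-- In characteristic `p`, points of unipotent groups have `p`-power order, uniformly. -/
theorem exists_pow_eq_one [Algebra.FiniteType k A] (p : ℕ) [Fact p.Prime] [CharP k p]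
    (hK : ∀ a : A, ∃ n, a ∈ K k A n) : ∃ N : ℕ, ∀ g : WithConv (A →ₐ[k] k), g ^ p ^ N = 1 := by
  classical
  obtain ⟨s, hs⟩ := Algebra.FiniteType.out (R := k) (A := A)
  choose d hd using hK
  haveI : Nontrivial A := (Bialgebra.counitAlgHom k A).toRingHom.domain_nontrivial
  have hinj : Function.Injective (algebraMap k 𝔸) := by
    haveI : Nontrivial 𝔸 := ⟨⟨1, 0, fun h => one_ne_zero (α := k) (by
      have := congrArg (fun f : 𝔸 => f (1 : A)) h
      rwa [show (1 : 𝔸) (1 : A) = 1 by rw [LinearMap.convOne_apply, Bialgebra.counit_one, map_one]] at this)⟩⟩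
    exact (algebraMap k 𝔸).injective
  haveI : CharP 𝔸 p := charP_of_injective_algebraMap hinj p
  refine ⟨s.sup d, fun g => ?_⟩
  have hpow : pointF (g ^ p ^ s.sup d) = (pointF g - 1) ^ p ^ s.sup d + 1 := by
    conv_lhs => rw [pointF_pow, ← sub_add_cancel (pointF g) 1]
    rw [add_pow_char_pow_of_commute (p := p) (h := Commute.one_right _), one_pow]
  refine WithConv.ext (AlgHom.ext_of_adjoin_eq_top hs fun a ha => ?_)
  have h := congrArg (fun f : 𝔸 => f a) hpow
  show (g ^ p ^ s.sup d) a = (1 : WithConv (A →ₐ[k] k)) a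
  rw [AlgHom.convOne_apply]
  refine Eq.trans h ?_
  show ((pointF g - 1) ^ p ^ s.sup d) a + (1 : 𝔸) a = _
  rw [pow_apply_eq_zero _ (point_sub_one g) (Nat.lt_pow_self (Fact.out (p := p.Prime)).one_lt).le
      (K_mono (Finset.le_sup (f := d) ha) (hd a)), zero_add, LinearMap.convOne_apply]

/-- Over an algebraically closed field a function vanishing at all rational points is nilpotent. -/
theorem isNilpotent_of_forall_point {L : Type u} [Field L] [IsAlgClosed L] {B : Type w} [CommRing B] [Algebra L B]
    [Algebra.FiniteType L B] {x : B} (h : ∀ g : B →ₐ[L] L, g x = 0) : IsNilpotent x := by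
  haveI : IsJacobsonRing B := isJacobsonRing_of_finiteType (A := L)
  rw [← mem_nilradical, nilradical, Ideal.radical_eq_jacobson, Ideal.jacobson]
  refine Submodule.mem_sInf.2 fun (M : Ideal B) hM => ?_
  haveI : M.IsMaximal := hM.2
  letI : Field (B ⧸ M) := Ideal.Quotient.field M
  haveI : Module.Finite L (B ⧸ M) := finite_of_finite_type_of_isJacobsonRing L (B ⧸ M)
  let e : L ≃ₐ[L] (B ⧸ M) := AlgEquiv.ofBijective (Algebra.ofId L (B ⧸ M))
    (IsAlgClosed.algebraMap_bijective_of_isIntegral (k := L) (K := B ⧸ M))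
  have := h (e.symm.toAlgHom.comp (Ideal.Quotient.mkₐ L M))
  rw [← Ideal.Quotient.eq_zero_iff_mem]
  have h' := congrArg e this
  simpa using h'

end Groth.Agent.UnipHopf
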