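import Groth.Agent.UnipHopfLib.Socle
import Groth.Agent.HopfLiftLib.Integral
import Groth.Agent.DiagHopfLib.Groups
import Mathlib.RingTheory.Bialgebra.TensorProduct

/-!
Homomorphisms from unipotent Hopf algebras to bialgebras with a normalised integral are trivial.
-/

set_option autoImplicit false

noncomputable section

universe u v w

open TensorProduct HopfRep WithConv
open scoped ComodLib

namespace Groth.Agent.UnipHopf

variable {k : Type u} [Field k] {A : Type v} [CommRing A] [Bialgebra k A]

section

variable {R : Type w} [CommRing R] [Algebra k R] {C : Type w} [CommRing C] [Algebra R C] [Algebra k C]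
  [IsScalarTower k R C]

/-- The square of a map over a smaller base. -/
def sq (ψ : A →ₗ[k] C) : A ⊗[k] A →ₗ[k] C ⊗[R] C :=
  TensorProduct.lift (LinearMap.mk₂ k (fun a b => ψ a ⊗ₜ[R] ψ b)
    (fun a b c => by rw [map_add, TensorProduct.add_tmul])
    (fun r a b => by rw [map_smul]; exact (TensorProduct.smul_tmul' r _ _).symm)
    (fun a b c => by rw [map_add, TensorProduct.tmul_add])
    (fun r a b => by rw [map_smul, TensorProduct.tmul_smul]))

@[simp] theorem sq_tmul (ψ : A →ₗ[k] C) (a b : A) : sq (R := R) ψ (a ⊗ₜ b) = ψ a ⊗ₜ[R] ψ b := rfl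

end

variable {R : Type w} [CommRing R] [Algebra k R] {C : Type w} [CommRing C] [Bialgebra R C] [Algebra k C]
  [IsScalarTower k R C]

theorem eq_counit_of_mem_K (ψ : A →ₗ[k] C) (h1 : ψ 1 = 1)
    (hΔ : ∀ a, CoalgebraStruct.comul (R := R) (ψ a) = sq ψ (CoalgebraStruct.comul (R := k) a))
    (l : C →ₗ[R] R) (hl1 : l 1 = 1)
    (hl : ∀ c, LinearMap.rTensor C l (CoalgebraStruct.comul (R := R) c) = l c ⊗ₜ[R] (1 : C))
    {n : ℕ} {a : A} (ha : a ∈ K k A n) : ψ a = CoalgebraStruct.counit (R := k) a • (1 : C) := by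
  induction n generalizing a with
  | zero => rw [K_zero, Submodule.mem_bot] at ha; rw [ha, map_zero, map_zero, zero_smul]
  | succ n ih =>
    obtain ⟨z, hz⟩ : CoalgebraStruct.comul (R := k) a - a ⊗ₜ[k] (1 : A) ∈
        LinearMap.range ((K k A n).subtype.rTensor A) := coact_sub_mem_of_mem_soc ha
    have key : ∀ z, sq (R := R) ψ ((K k A n).subtype.rTensor A z) =
        (1 : C) ⊗ₜ[R] ψ (TensorProduct.lid k A (LinearMap.rTensor A (CoalgebraStruct.counit (R := k))
          ((K k A n).subtype.rTensor A z))) := fun z => by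
      induction z using TensorProduct.induction_on with
      | zero => simp
      | add x y hx hy => simp only [map_add, TensorProduct.tmul_add, hx, hy]
      | tmul p q =>
        rw [LinearMap.rTensor_tmul, sq_tmul, LinearMap.rTensor_tmul, TensorProduct.lid_tmul, map_smul,
          show ψ ((K k A n).subtype p) = _ from ih p.2, TensorProduct.tmul_smul]
        exact (TensorProduct.smul_tmul' _ _ _).symm
    have h := key z
    rw [hz, map_sub, map_sub, sq_tmul, h1, ← hΔ, Coalgebra.rTensor_counit_comul, LinearMap.rTensor_tmul, map_sub,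
      TensorProduct.lid_tmul, TensorProduct.lid_tmul, one_smul, map_sub, map_smul, h1, sub_eq_iff_eq_add] at h
    have h2 := congrArg (TensorProduct.lid R C ∘ LinearMap.rTensor C l) h
    simp only [Function.comp_apply, hl, map_add, LinearMap.rTensor_tmul, TensorProduct.lid_tmul, hl1, one_smul] at h2
    rw [right_eq_add, sub_eq_zero] at h2
    exact h2

omit [CommRing R] in
theorem exists_integral_of_isDiagonalizable_algClosure {k : Type u} [Field k] {AM : Type u} [CommRing AM]
    [HopfAlgebra k AM] (hM : HopfRep.IsDiagonalizable (AlgebraicClosure k) (AlgebraicClosure k ⊗[k] AM)) :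
    ∃ ι : AM →ₗ[k] k, HopfLift.IsIntegral k ι := by
  obtain ⟨N, _, ⟨E⟩⟩ := DiagHopf.exists_split_of_isDiagonalizable hM
  obtain ⟨l, hl⟩ := HopfLift.exists_integral_of_split E
  exact HopfLift.exists_integral_of_faithfullyFlat hl

theorem exists_integral_of_isMultTypeConst {k : Type u} [Field k] {AM : Type u} [CommRing AM]
    [HopfAlgebra k AM] (hM : SGA3b.IsMultTypeConst k AM) :
    ∃ ι : AM →ₗ[k] k, HopfLift.IsIntegral k ι := by
  obtain ⟨T, _, _, hT, N, _, ⟨e⟩⟩ := hM
  obtain ⟨E⟩ := DiagHopf.exists_split_of_bialgEquiv e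
  obtain ⟨l, hl⟩ := HopfLift.exists_integral_of_split E
  exact HopfLift.exists_integral_of_faithfullyFlat hl

end Groth.Agent.UnipHopf
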